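import Groth.Agent.DCompFlatLib.Module
import Groth.Agent.DCompTenLib.Module
import Groth.Agent.S7055
import Groth.Agent.S7048

/-!
# Derived completion of a flat module tensored with a finite module
-/

set_option autoImplicit false
set_option linter.all false
set_option maxHeartbeats 1000000

universe u

open CategoryTheory CategoryTheory.Limits MonoidalCategory HomologicalComplex DTen DTenLib
open CategoryTheory.Pretriangulated (Triangle)
open Groth.Agent
open KFlatLib (tMap tT tensorN)
open PerfBaseLib (M₀ tensorSingleIso)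

attribute [local instance] HasDerivedCategory.standard

noncomputable section

namespace DCompFlatLib

variable {A : Type u} [CommRing A]

/-- A module in `D(A)`. -/
abbrev QM (N : ModuleCat.{u} A) : Dual.D A := DerivedCategory.Q.obj (M₀ N)

/-- A map of modules in `D(A)`. -/
abbrev qmap {N N' : ModuleCat.{u} A} (g : N ⟶ N') : QM N ⟶ QM N' :=
  DerivedCategory.Q.map ((CochainComplex.singleFunctor (ModuleCat.{u} A) 0).map g)

theorem isKFlat_M₀ (N : ModuleCat.{u} A) [Module.Flat A N] : DRing.IsKFlat A (M₀ N) := by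
  refine KFlatLib.isKFlat_of_bounded_flat _ 0 (fun i hi => PerfBaseLib.isZero_M₀ N i (by omega)) fun i => ?_
  by_cases hi : i = 0
  · subst hi
    exact Module.Flat.of_linearEquiv (singleObjXSelf (ComplexShape.up ℤ) 0 N).toLinearEquiv
  · haveI := ModuleCat.subsingleton_of_isZero (PerfBaseLib.isZero_M₀ N i hi)
    infer_instance

theorem isPC_QM [IsNoetherianRing A] (M : ModuleCat.{u} A) [Module.Finite A M] :
    DRing.IsPseudoCoherent' A (QM M) := by
  obtain ⟨E, c, hc, hE, ⟨e⟩⟩ := DualCxLib.isPseudoCoherent'_inD (A := A) (M : Type u)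
  exact ⟨E, c, hc, hE, ⟨e ≪≫ (DerivedCategory.singleFunctorIsoCompQ (ModuleCat.{u} A) 0).app M⟩⟩

theorem subsingleton_HD_QM (N : ModuleCat.{u} A) (i : ℤ) (hi : i ≠ 0) : Subsingleton (Dual.HD A (QM N) i) :=
  ModuleCat.subsingleton_of_isZero ((DRingLib.isZero_Hn_inD (R := A) (N : Type u) hi).of_iso
    ((DerivedCategory.homologyFunctor (ModuleCat.{u} A) i).mapIso
      ((DerivedCategory.singleFunctorIsoCompQ (ModuleCat.{u} A) 0).app N).symm))

theorem isDerivedComplete_QM (I : Ideal A) (N : ModuleCat.{u} A) [IsAdicComplete I N] :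
    DRing.IsDerivedComplete I (QM N) :=
  ObjectProperty.prop_of_iso _ ((DerivedCategory.singleFunctorIsoCompQ (ModuleCat.{u} A) 0).app N)
    (Groth.Agent.S7048.result I (N : Type u))

variable [HasLTen A] (M : ModuleCat.{u} A)

/-- `N[0] ⊗ M[0] ≅ (N ⊗ M)[0]` for flat `N`. -/
def si (N : ModuleCat.{u} A) [Module.Flat A N] : (tensorRightD A (QM M)).obj (QM N) ≅ QM (N ⊗ M) :=
  @asIso _ _ _ _ ((ε A).app (M₀ N, M₀ M)) (isIso_ε (M₀ N) (M₀ M) (Or.inl (isKFlat_M₀ N))) ≪≫
    DerivedCategory.Q.mapIso (tensorSingleIso M (M₀ N) ≪≫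
      (HomologicalComplex.singleMapHomologicalComplex (tensorRight M) (ComplexShape.up ℤ) 0).app N)

theorem si_natural {N N' : ModuleCat.{u} A} [Module.Flat A N] [Module.Flat A N'] (g : N ⟶ N') :
    (si M N).hom ≫ qmap (g ▷ M) = (tensorRightD A (QM M)).map (qmap g) ≫ (si M N').hom := by
  let f := (CochainComplex.singleFunctor (ModuleCat.{u} A) 0).map g
  have h0 : (tensorRightD A (QM M)).map (qmap g) ≫ (ε A).app (M₀ N', M₀ M) =
      (ε A).app (M₀ N, M₀ M) ≫ DerivedCategory.Q.map (f ▷ M₀ M) := (εRight A (M₀ M)).naturality f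
  have h1 : f ▷ M₀ M = tMap f (𝟙 (M₀ M)) := (tensorHom_id f (M₀ M)).symm
  have h2 : (f ▷ M₀ M) ≫ (tensorSingleIso M (M₀ N') ≪≫
        (HomologicalComplex.singleMapHomologicalComplex (tensorRight M) (ComplexShape.up ℤ) 0).app N').hom =
      (tensorSingleIso M (M₀ N) ≪≫
        (HomologicalComplex.singleMapHomologicalComplex (tensorRight M) (ComplexShape.up ℤ) 0).app N).hom ≫
        (CochainComplex.singleFunctor (ModuleCat.{u} A) 0).map (g ▷ M) := by
    rw [h1, Iso.trans_hom, Iso.trans_hom, ← Category.assoc, DCompTenLib.tensorSingleIso_natural, Category.assoc,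
      Category.assoc]
    exact congrArg (_ ≫ ·)
      ((HomologicalComplex.singleMapHomologicalComplex (tensorRight M) (ComplexShape.up ℤ) 0).hom.naturality g)
  simp only [si, Iso.trans_hom, Functor.mapIso_hom, asIso_hom, Category.assoc]
  rw [reassoc_of% h0]
  exact congrArg ((ε A).app (M₀ N, M₀ M) ≫ ·) ((Functor.map_comp _ _ _).symm.trans
    ((congrArg DerivedCategory.Q.map h2.symm).trans (Functor.map_comp _ _ _)))

variable [HasLTen₃ A] [IsSymMonoidal A] [HasRHom A] [IsNoetherianRing A] {I : Ideal A}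

/-- Derived completeness plus invisibility after reduction gives a reflection. -/
theorem isRefl_of_isIso_reduction [DRing.HasDerivedCompletion I] {K B : Dual.D A} (q : K ⟶ B)
    (b : ℤ) (hK : ∀ i, b < i → Subsingleton (Dual.HD A K i)) (hB : DRing.IsDerivedComplete I B)
    (hKc : DRing.IsDerivedComplete I ((tensorRightD A (QM (ModuleCat.of A (A ⧸ I)))).obj K))
    (hiso : IsIso ((tensorRightD A (QM (ModuleCat.of A (A ⧸ I)))).map q)) : DCompLib.IsRefl I q := by
  let X := QM (ModuleCat.of A (A ⧸ I))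
  let G := tensorRightD A X
  have hI : I.FG := IsNoetherian.noetherian I
  have hu := DCompLib.isRefl_unit (I := I) K
  obtain ⟨a, ha⟩ := (hu.2 B hB).2 q
  simp only at ha
  have hGu : DCompLib.IsRefl I (G.map (DRing.toDerivedCompletion I K)) :=
    DCompTenLib.isRefl_tensor_completion hI (isPC_QM (ModuleCat.of A (A ⧸ I))) K b hK
  obtain ⟨r, hr⟩ := (hGu.2 _ hKc).2 (𝟙 _)
  simp only at hr
  haveI : IsIso (G.map (DRing.toDerivedCompletion I K)) := ⟨r, hr, (hGu.2 _ hGu.1).1 (by
    show G.map _ ≫ r ≫ G.map _ = G.map _ ≫ 𝟙 _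
    rw [← Category.assoc, hr, Category.id_comp, Category.comp_id])⟩
  haveI : IsIso (G.map a) := by
    have : G.map (DRing.toDerivedCompletion I K) ≫ G.map a = G.map q := by rw [← G.map_comp, ha]
    haveI : IsIso (G.map (DRing.toDerivedCompletion I K) ≫ G.map a) := this ▸ hiso
    exact IsIso.of_isIso_comp_left (G.map (DRing.toDerivedCompletion I K)) (G.map a)
  have hpre : ∀ E, Function.Bijective fun g : B ⟶ (RHomR A X).obj E => a ≫ g := fun E => by
    have := ((rhomAdj A X).homEquiv _ E).bijective.comp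
      ((asIso (G.map a)).symm.homFromEquiv.bijective.comp ((rhomAdj A X).homEquiv B E).symm.bijective)
    refine (congrArg Function.Bijective (funext fun g => ?_)).mpr this
    show a ≫ g = ((rhomAdj A X).homEquiv _ E) (G.map a ≫ ((rhomAdj A X).homEquiv B E).symm g)
    rw [← Adjunction.homEquiv_naturality_left_symm, Equiv.apply_symm_apply]
  obtain ⟨C, q', δ, hT⟩ := Pretriangulated.distinguished_cocone_triangle a
  have hC : DRing.IsDerivedComplete I C := DCompLib.isDerivedComplete_obj₃ _ hT hu.1 hB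
  have hGC : IsZero (G.obj C) := by
    refine (IsZero.iff_id_eq_zero _).2 (((rhomAdj A X).homEquiv _ _).injective ?_)
    generalize (rhomAdj A X).homEquiv C (G.obj C) 0 = g'
    generalize (rhomAdj A X).homEquiv C (G.obj C) (𝟙 _) = g
    suffices h : ∀ g : C ⟶ (RHomR A X).obj (G.obj C), g = 0 from (h g).trans (h g').symm
    intro g
    have hq'g : q' ≫ g = 0 := (hpre _).1 (by
      show a ≫ q' ≫ g = a ≫ 0
      rw [comp_zero, ← Category.assoc]
      exact (congrArg (· ≫ g) (Pretriangulated.comp_distTriang_mor_zero₁₂ _ hT)).trans zero_comp)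
    obtain ⟨h, rfl⟩ := Triangle.yoneda_exact₃ _ hT g hq'g
    obtain ⟨e⟩ := ShriekRingLib.nonempty_RHom_shift_iso (X := X) (G.obj C) (-1)
    obtain ⟨h', hh'⟩ := (hpre _).2 ((shiftEquiv (Dual.D A) (1 : ℤ)).toAdjunction.homEquiv _ _ h ≫ e.inv)
    have hh : h = a⟦(1 : ℤ)⟧' ≫ ((shiftEquiv (Dual.D A) (1 : ℤ)).toAdjunction.homEquiv _ _).symm (h' ≫ e.hom) := by
      apply ((shiftEquiv (Dual.D A) (1 : ℤ)).toAdjunction.homEquiv _ _).injective
      refine Eq.trans ?_ (Adjunction.homEquiv_naturality_left _ a _).symm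
      rw [Equiv.apply_symm_apply]
      exact (((Category.assoc a h' e.hom).symm.trans (congrArg (· ≫ e.hom) hh')).trans
        ((Category.assoc _ _ _).trans ((congrArg (_ ≫ ·) e.inv_hom_id).trans (Category.comp_id _)))).symm
    rw [hh]
    exact (Category.assoc _ _ _).symm.trans
      ((congrArg (· ≫ _) (Pretriangulated.comp_distTriang_mor_zero₃₁ _ hT)).trans zero_comp)
  haveI : DRing.HasLTensor A (ModuleCat.of A (A ⧸ I)) :=
    DRingLib.hasLeftDerived_of_kFlat (Φ := tensorRight (ModuleCat.of A (A ⧸ I)))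
      fun _ _ α hP hQ hα => haveI := hα; DRingLib.quasiIso_tensorN α hP hQ _
  obtain ⟨P, hP, ⟨eP⟩⟩ := exists_kf_rep C
  have hCz : IsZero C := Groth.Agent.S7055.result I hI C hC (hGC.of_iso
    ((DRing.LTensor A (ModuleCat.of A (A ⧸ I))).mapIso eP.symm ≪≫
      (DCompTenLib.ltIso (ModuleCat.of A (A ⧸ I)) P hP).symm ≪≫ G.mapIso eP))
  haveI : IsIso a := (Triangle.isZero₃_iff_isIso₁ _ hT).1 hCz
  exact DCompTenLib.isRefl_of_arrow (Iso.refl K) (asIso a) (by simp [ha]) hu

theorem isAdicComplete_of_killed (N : Type u) [AddCommGroup N] [Module A N] (h : ∀ a ∈ I, ∀ x : N, a • x = 0) :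
    IsAdicComplete I N := by
  have hbot : ∀ n, 1 ≤ n → (I ^ n • ⊤ : Submodule A N) = ⊥ := fun n hn => le_bot_iff.1
    (Submodule.smul_le.2 fun r hr x _ => by
      rw [Submodule.mem_bot]; exact h r (Ideal.pow_le_self (by omega) hr) x)
  refine { haus' := fun x hx => ?_, prec' := fun f hf => ⟨f 1, fun n => ?_⟩ }
  · have := SModEq.zero.1 (hx 1)
    rwa [hbot 1 le_rfl, Submodule.mem_bot] at this
  · rcases Nat.eq_zero_or_pos n with rfl | hn
    · refine SModEq.sub_mem.2 ?_
      simp
    · have h1 := SModEq.sub_mem.1 (hf (show 1 ≤ n from hn))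
      rw [hbot 1 le_rfl, Submodule.mem_bot, sub_eq_zero] at h1
      rw [h1]

/-- The adic completion of a flat module is its derived completion. -/
theorem isRefl_completion [DRing.HasDerivedCompletion I] (N : ModuleCat.{u} A) [Module.Flat A N] :
    DCompLib.IsRefl I (qmap (ModuleCat.ofHom (AdicCompletion.of I N) : N ⟶ ModuleCat.of A (AdicCompletion I N))) := by
  haveI := flat_completion I (N : Type u)
  haveI := AdicCompletion.isAdicComplete (M := N) (IsNoetherian.noetherian I)
  let Q := ModuleCat.of A (A ⧸ I)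
  have hkill : IsAdicComplete I ((N ⊗ Q : ModuleCat.{u} A) : Type u) := isAdicComplete_of_killed _ fun a ha x => by
    induction x using TensorProduct.induction_on with
    | zero => exact smul_zero a
    | tmul m r =>
      rw [← TensorProduct.tmul_smul]
      have : a • r = 0 := by
        obtain ⟨r, rfl⟩ := Ideal.Quotient.mk_surjective r
        show Ideal.Quotient.mk I (a * r) = 0
        rw [Ideal.Quotient.eq_zero_iff_mem]
        exact I.mul_mem_right r ha
      rw [this, TensorProduct.tmul_zero]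
    | add y z hy hz => rw [smul_add, hy, hz, add_zero]
  refine isRefl_of_isIso_reduction _ 0 (fun i hi => subsingleton_HD_QM N i (by omega))
    (isDerivedComplete_QM I _) (ObjectProperty.prop_of_iso _ (si Q N).symm (isDerivedComplete_QM I _)) ?_
  let g : N ⟶ ModuleCat.of A (AdicCompletion I N) := ModuleCat.ofHom (AdicCompletion.of I N)
  haveI : IsIso (g ▷ Q) := (ConcreteCategory.isIso_iff_bijective _).2 (bijective_rTensor_quot I (N : Type u))
  haveI : IsIso ((tensorRightD A (QM Q)).map (qmap g) ≫ (si Q (ModuleCat.of A (AdicCompletion I N))).hom) := by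
    rw [← si_natural]; infer_instance
  exact IsIso.of_isIso_comp_right _ (si Q (ModuleCat.of A (AdicCompletion I N))).hom

/-- A flat module tensored with a finite one. -/
theorem isRefl_tensor [DRing.HasDerivedCompletion I] (N : ModuleCat.{u} A) [Module.Flat A N] [Module.Finite A M] :
    DCompLib.IsRefl I (qmap ((ModuleCat.ofHom (AdicCompletion.of I N) : N ⟶ ModuleCat.of A (AdicCompletion I N)) ▷ M)) := by
  haveI := flat_completion I (N : Type u)
  haveI := AdicCompletion.isAdicComplete (M := N) (IsNoetherian.noetherian I)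
  haveI := isAdicComplete_tensor I (P := AdicCompletion I N) (M : Type u)
  refine DCompTenLib.isRefl_of_arrow (si M N) (si M (ModuleCat.of A (AdicCompletion I N))) (si_natural M _) ?_
  have hq := isRefl_completion (I := I) N
  exact ⟨ObjectProperty.prop_of_iso _ (si M (ModuleCat.of A (AdicCompletion I N))).symm
      (@isDerivedComplete_QM A _ I _ (isAdicComplete_tensor I (P := AdicCompletion I N) (M : Type u))),
    DCompTenLib.bijective_tensor_map hq (QM M)⟩

end DCompFlatLib

end
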