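import Groth.Agent.S0551
import Mathlib.RingTheory.AdicCompletion.Exactness
import Mathlib.RingTheory.AdicCompletion.Completeness
import Mathlib.RingTheory.AdicCompletion.AsTensorProduct
import Mathlib.RingTheory.Flat.Basic
import Mathlib.RingTheory.Flat.Stability
import Mathlib.LinearAlgebra.TensorProduct.RightExactness
import Mathlib.LinearAlgebra.TensorProduct.Quotient
import Mathlib.LinearAlgebra.TensorProduct.Prod

/-!
# Adic completion of a tensor product of a flat and a finite module
-/

set_option autoImplicit false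
set_option linter.all false

universe u

open scoped TensorProduct
open Function (Injective Surjective Bijective)

noncomputable section

namespace DCompFlatLib

variable {A : Type u} [CommRing A] (I : Ideal A)

section Limits

variable {P : Type u} [AddCommGroup P] [Module A P]

theorem map_mem_smul {Q : Type u} [AddCommGroup Q] [Module A Q] (f : P →ₗ[A] Q) (J : Ideal A) {x : P}
    (hx : x ∈ (J • ⊤ : Submodule A P)) : f x ∈ (J • ⊤ : Submodule A Q) :=
  Submodule.smul_top_le_comap_smul_top J f hx

theorem isHausdorff_pi [IsHausdorff I P] (ι : Type) : IsHausdorff I (ι → P) :=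
  ⟨fun x hx => funext fun i => IsHausdorff.haus ‹_› _ fun n =>
    SModEq.zero.2 (map_mem_smul (LinearMap.proj i) _ (SModEq.zero.1 (hx n)))⟩

theorem isPrecomplete_pi [IsPrecomplete I P] (ι : Type) [Fintype ι] : IsPrecomplete I (ι → P) := by
  classical
  refine ⟨fun f hf => ?_⟩
  choose L hL using fun i => IsPrecomplete.prec ‹IsPrecomplete I P› (f := fun n => f n i) fun {m n} hmn =>
    SModEq.sub_mem.2 (map_mem_smul (LinearMap.proj i) _ (SModEq.sub_mem.1 (hf hmn)))
  refine ⟨L, fun n => SModEq.sub_mem.2 ?_⟩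
  rw [← Finset.univ_sum_single (f n - L)]
  refine Submodule.sum_mem _ fun i _ => ?_
  exact map_mem_smul (LinearMap.single A (fun _ => P) i) _ (SModEq.sub_mem.1 (hL i n))

theorem exists_preimage_mem {Q : Type u} [AddCommGroup Q] [Module A Q] (p : P →ₗ[A] Q) (J : Ideal A) {y : Q}
    (hy : y ∈ J • LinearMap.range p) : ∃ z ∈ (J • ⊤ : Submodule A P), p z = y := by
  rw [← Submodule.map_top, ← Submodule.map_smul''] at hy
  exact hy

/-- A quotient of a complete module by a precomplete submodule with a shift bound is separated. -/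
theorem mem_of_forall {Q : Type u} [AddCommGroup Q] [Module A Q] [IsHausdorff I Q] [IsPrecomplete I P]
    (p : P →ₗ[A] Q) (k : ℕ)
    (hk : ∀ n, k ≤ n → LinearMap.range p ⊓ I ^ n • ⊤ ≤ I ^ (n - k) • LinearMap.range p)
    (y : Q) (hy : ∀ n, ∃ r ∈ LinearMap.range p, y - r ∈ (I ^ n • ⊤ : Submodule A Q)) :
    y ∈ LinearMap.range p := by
  choose r hr hyr using hy
  have hd : ∀ n, ∃ z ∈ (I ^ n • ⊤ : Submodule A P), p z = r (k + (n + 1)) - r (k + n) := fun n => by
    refine exists_preimage_mem p (I ^ n) ?_
    have h := hk (k + n) (by omega) (show r (k + (n + 1)) - r (k + n) ∈ LinearMap.range p ⊓ I ^ (k + n) • ⊤ from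
      ⟨Submodule.sub_mem _ (hr _) (hr _), by
        rw [show r (k + (n + 1)) - r (k + n) = (y - r (k + n)) - (y - r (k + (n + 1))) by abel]
        exact Submodule.sub_mem _ (hyr _) (Submodule.smul_mono_left (Ideal.pow_le_pow_right (by omega)) (hyr _))⟩)
    rwa [show k + n - k = n by omega] at h
  choose z hz hpz using hd
  obtain ⟨z₀, hz₀⟩ := hr k
  let S : ℕ → P := fun n => z₀ + ∑ j ∈ Finset.range n, z j
  have hS : ∀ {m n}, m ≤ n → S m ≡ S n [SMOD (I ^ m • ⊤ : Submodule A P)] := fun {m n} hmn => by
    refine SModEq.sub_mem.2 ?_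
    rw [show S m - S n = -(∑ j ∈ Finset.Ico m n, z j) by
      rw [Finset.sum_Ico_eq_sub _ hmn]; simp only [S]; abel]
    exact Submodule.neg_mem _ (Submodule.sum_mem _ fun j hj =>
      Submodule.smul_mono_left (Ideal.pow_le_pow_right (Finset.mem_Ico.1 hj).1) (hz j))
  obtain ⟨L, hL⟩ := IsPrecomplete.prec ‹IsPrecomplete I P› hS
  have hpS : ∀ n, p (S n) = r (k + n) := fun n => by
    induction n with
    | zero => simp [S, hz₀]
    | succ n ih =>
      rw [show S (n + 1) = S n + z n by simp only [S, Finset.sum_range_succ]; abel, map_add, ih, hpz]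
      abel
  refine ⟨L, (sub_eq_zero.1 (IsHausdorff.haus ‹IsHausdorff I Q› (y - p L) fun n => SModEq.zero.2 ?_)).symm⟩
  rw [show y - p L = (y - r (k + n)) + p (S n - L) by rw [map_sub, hpS]; abel]
  exact Submodule.add_mem _ (Submodule.smul_mono_left (Ideal.pow_le_pow_right (by omega)) (hyr _))
    (map_mem_smul p _ (SModEq.sub_mem.1 (hL n)))

end Limits

variable {P : Type u} [AddCommGroup P] [Module A P]

section AR

variable {F : Type u} [AddCommGroup F] [Module A F]

theorem mk_tmul_eq_zero {J : Ideal A} {x : P ⊗[A] F} (hx : x ∈ (J • ⊤ : Submodule A (P ⊗[A] F))) :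
    LinearMap.lTensor P (J • ⊤ : Submodule A F).mkQ x = 0 := by
  induction hx using Submodule.smul_induction_on' with
  | smul r hr y _ =>
    induction y using TensorProduct.induction_on with
    | zero => simp
    | tmul a b =>
      rw [map_smul, LinearMap.lTensor_tmul, ← TensorProduct.tmul_smul, ← map_smul]
      show a ⊗ₜ[A] Submodule.Quotient.mk (r • b) = 0
      rw [(Submodule.Quotient.mk_eq_zero _).2 (Submodule.smul_mem_smul hr Submodule.mem_top), TensorProduct.tmul_zero]
    | add a b ha hb => rw [smul_add, map_add, ha (Submodule.mem_top), hb (Submodule.mem_top), add_zero]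
  | add x _ y _ hx hy => rw [map_add, hx, hy, add_zero]

/-- Artin–Rees after tensoring with a flat module. -/
theorem range_inf_le [IsNoetherianRing A] [Module.Finite A F] [Module.Flat A P] (R : Submodule A F) :
    ∃ k : ℕ, ∀ n, k ≤ n → LinearMap.range (LinearMap.lTensor P R.subtype) ⊓ I ^ n • ⊤ ≤
      I ^ (n - k) • LinearMap.range (LinearMap.lTensor P R.subtype) := by
  obtain ⟨k, hk⟩ := Ideal.exists_pow_inf_eq_pow_smul I R
  refine ⟨k, fun n hn x hx => ?_⟩
  obtain ⟨hxR, hxI⟩ := hx
  let G : F →ₗ[A] (F ⧸ R) × (F ⧸ (I ^ n • ⊤ : Submodule A F)) := R.mkQ.prod (I ^ n • ⊤ : Submodule A F).mkQ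
  have hG : Function.Exact (LinearMap.ker G).subtype G := LinearMap.exact_subtype_ker_map G
  have h0 : LinearMap.lTensor P G x = 0 := by
    apply (TensorProduct.prodRight A A P (F ⧸ R) (F ⧸ (I ^ n • ⊤ : Submodule A F))).injective
    rw [map_zero]
    have hnat : ∀ w : P ⊗[A] F, TensorProduct.prodRight A A P (F ⧸ R) (F ⧸ (I ^ n • ⊤ : Submodule A F))
        (LinearMap.lTensor P G w) =
          (LinearMap.lTensor P R.mkQ w, LinearMap.lTensor P (I ^ n • ⊤ : Submodule A F).mkQ w) := fun w => by
      induction w using TensorProduct.induction_on with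
      | zero => simp [Prod.ext_iff]
      | tmul a b => simp [G]
      | add a b ha hb => simp [map_add, ha, hb]
    rw [hnat, mk_tmul_eq_zero hxI]
    obtain ⟨w, rfl⟩ := hxR
    have h0 : R.mkQ.comp R.subtype = 0 := LinearMap.ext fun v => (Submodule.Quotient.mk_eq_zero _).2 v.2
    rw [← LinearMap.comp_apply, ← LinearMap.lTensor_comp, h0]
    simp
  obtain ⟨w, rfl⟩ := (Module.Flat.lTensor_exact P hG x).1 h0
  clear h0 hxR hxI
  induction w using TensorProduct.induction_on with
  | zero => simp
  | add a b ha hb => rw [map_add]; exact Submodule.add_mem _ ha hb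
  | tmul a b =>
    have hb : (b : F) ∈ I ^ (n - k) • R := by
      have h : (b : F) ∈ (I ^ n • ⊤ ⊓ R : Submodule A F) := by
        have hb0 := b.2
        rw [LinearMap.mem_ker] at hb0
        exact ⟨(Submodule.Quotient.mk_eq_zero _).1 (congrArg Prod.snd hb0),
          (Submodule.Quotient.mk_eq_zero _).1 (congrArg Prod.fst hb0)⟩
      rw [hk n hn] at h
      exact (smul_mono_right (I ^ (n - k)) (inf_le_right : (I ^ k • ⊤ : Submodule A F) ⊓ R ≤ R)) h
    rw [LinearMap.lTensor_tmul]
    show a ⊗ₜ[A] (b : F) ∈ _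
    generalize (b : F) = b' at hb ⊢
    induction hb using Submodule.smul_induction_on' with
    | smul r hr y hy =>
      rw [TensorProduct.tmul_smul]
      exact Submodule.smul_mem_smul hr ⟨a ⊗ₜ ⟨y, hy⟩, rfl⟩
    | add x _ y _ hx hy => rw [TensorProduct.tmul_add]; exact Submodule.add_mem _ hx hy

end AR

variable [IsNoetherianRing A] [Module.Flat A P] [IsAdicComplete I P]
  (M : Type u) [AddCommGroup M] [Module A M] [Module.Finite A M]

/-- A flat complete module tensored with a finite module is complete. -/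
theorem isAdicComplete_tensor : IsAdicComplete I (P ⊗[A] M) := by
  obtain ⟨s, π, hπ⟩ := Module.Finite.exists_fin' A M
  obtain ⟨t, φ, hφ⟩ := Module.Finite.exists_fin' A (LinearMap.ker π)
  let e : ∀ m : ℕ, P ⊗[A] (Fin m → A) ≃ₗ[A] (Fin m → P) := fun m => TensorProduct.piScalarRight A A P (Fin m)
  haveI := isPrecomplete_pi I (P := P) (Fin t)
  haveI := isPrecomplete_pi I (P := P) (Fin s)
  haveI := isHausdorff_pi I (P := P) (Fin s)
  let p := (LinearMap.lTensor P π).comp (e s).symm.toLinearMap
  have hp : Surjective p := (LinearMap.lTensor_surjective P hπ).comp (e s).symm.surjective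
  haveI : IsHausdorff I (P ⊗[A] (Fin s → A)) := ⟨fun x hx => (e s).injective ((IsHausdorff.haus ‹IsHausdorff I (Fin s → P)› _
    fun n => SModEq.zero.2 (map_mem_smul (e s).toLinearMap _ (SModEq.zero.1 (hx n)))).trans (map_zero _).symm)⟩
  obtain ⟨k, hk⟩ := range_inf_le I (P := P) (LinearMap.ker π)
  let q := (LinearMap.lTensor P (LinearMap.ker π).subtype).comp ((LinearMap.lTensor P φ).comp (e t).symm.toLinearMap)
  have hq : LinearMap.range q = LinearMap.range (LinearMap.lTensor P (LinearMap.ker π).subtype) :=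
    LinearMap.range_comp_of_range_eq_top _ (LinearMap.range_eq_top.2
      ((LinearMap.lTensor_surjective P hφ).comp (e t).symm.surjective))
  have hker : LinearMap.ker (LinearMap.lTensor P π) = LinearMap.range q :=
    hq.symm ▸ LinearMap.exact_iff.1 (lTensor_exact P (LinearMap.exact_subtype_ker_map π) hπ)
  refine { haus' := fun x hx => ?_, prec' := fun f hf => ?_ }
  · obtain ⟨y, rfl⟩ := LinearMap.lTensor_surjective P hπ x
    have : y ∈ LinearMap.range q := mem_of_forall I q k (fun n hn => hq.symm ▸ hk n hn) y fun n => by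
      have h := SModEq.zero.1 (hx n)
      rw [← LinearMap.range_eq_top.2 (LinearMap.lTensor_surjective P hπ), ← Submodule.map_top, ← Submodule.map_smul''] at h
      obtain ⟨i, hi, hiy⟩ := h
      refine ⟨y - i, hker ▸ ?_, by simpa using hi⟩
      rw [LinearMap.mem_ker, map_sub, hiy, sub_self]
    rwa [← hker, LinearMap.mem_ker] at this
  · obtain ⟨L, hL⟩ := AdicCompletion.of_surjective_iff.1
      (fun c => (by
        obtain ⟨d, rfl⟩ := AdicCompletion.map_surjective I hp c
        obtain ⟨d', rfl⟩ := AdicCompletion.of_surjective I (Fin s → P) d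
        exact ⟨p d', (AdicCompletion.map_of I p d').symm⟩)) |>.prec hf
    exact ⟨L, hL⟩

section Completion

variable (N : Type u) [AddCommGroup N] [Module A N]

omit [Module.Flat A P] [IsAdicComplete I P] in
theorem exists_sub_mem (y : AdicCompletion I N) (n : ℕ) :
    ∃ x : N, y - AdicCompletion.of I N x ∈ (I ^ n • ⊤ : Submodule A (AdicCompletion I N)) := by
  obtain ⟨x, hx⟩ := Submodule.Quotient.mk_surjective _ (y.val n)
  refine ⟨x, ?_⟩
  rw [AdicCompletion.pow_smul_top_eq_ker_eval (IsNoetherian.noetherian I), LinearMap.mem_ker, map_sub, sub_eq_zero]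
  exact hx.symm

omit [Module.Flat A P] [IsAdicComplete I P] in
theorem mem_of_of_mem (x : N) (n : ℕ) (h : AdicCompletion.of I N x ∈ (I ^ n • ⊤ : Submodule A (AdicCompletion I N))) :
    x ∈ (I ^ n • ⊤ : Submodule A N) := by
  rw [AdicCompletion.pow_smul_top_eq_ker_eval (IsNoetherian.noetherian I), LinearMap.mem_ker] at h
  exact (Submodule.Quotient.mk_eq_zero _).1 h

omit [Module.Flat A P] [IsAdicComplete I P] in
/-- The completion of a flat module is flat. -/
theorem flat_completion [Module.Flat A N] : Module.Flat A (AdicCompletion I N) := by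
  haveI : Module.Flat A (AdicCompletion I A) := AdicCompletion.flat_of_isNoetherian I
  haveI : Module.Flat (A ⧸ I) (N ⧸ (I • ⊤ : Submodule A N)) := by
    haveI : Module.Flat (A ⧸ I) ((A ⧸ I) ⊗[A] N) := inferInstance
    let e := TensorProduct.quotTensorEquivQuotSMul N I
    have hs : Surjective (algebraMap A (A ⧸ I)) := Ideal.Quotient.mk_surjective
    exact Module.Flat.of_linearEquiv (e.extendScalarsOfSurjective hs).symm
  haveI : IsNoetherianRing (A ⧸ I) := isNoetherianRing_of_surjective A _ (Ideal.Quotient.mk I) Ideal.Quotient.mk_surjective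
  haveI : Module.Flat (AdicCompletion I A) (AdicCompletion I N) := by
    refine Groth.Agent.S0551.result A I (IsNoetherian.noetherian I) N ?_
    have h := Module.Flat.rTensor_preserves_injective_linearMap (M := N) I.subtype I.injective_subtype
    have he : TensorProduct.lift ((LinearMap.lsmul A N).comp I.subtype) =
        (TensorProduct.lid A N).toLinearMap.comp (LinearMap.rTensor N I.subtype) :=
      TensorProduct.ext' fun i x => by simp
    rw [he]
    exact (TensorProduct.lid A N).injective.comp h
  exact Module.Flat.trans A (AdicCompletion I A) (AdicCompletion I N)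

omit [Module.Flat A P] [IsAdicComplete I P] [IsNoetherianRing A] in
/-- Completion sees only the quotients. -/
theorem bijective_map {X Y : Type u} [AddCommGroup X] [Module A X] [AddCommGroup Y] [Module A Y] (g : X →ₗ[A] Y)
    (h₁ : ∀ (y : Y) (n : ℕ), ∃ x, y - g x ∈ (I ^ n • ⊤ : Submodule A Y))
    (h₂ : ∀ (x : X) (n : ℕ), g x ∈ (I ^ n • ⊤ : Submodule A Y) → x ∈ (I ^ n • ⊤ : Submodule A X)) :
    Bijective (AdicCompletion.map I g) := by
  have hv : ∀ (c : AdicCompletion I X) (n : ℕ) (x : X), Submodule.Quotient.mk x = c.val n →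
      (AdicCompletion.map I g c).val n = Submodule.Quotient.mk (g x) := fun c n x hx => by
    rw [AdicCompletion.map_val_apply, ← hx]
    rfl
  refine ⟨(injective_iff_map_eq_zero _).2 fun c hc => AdicCompletion.ext fun n => ?_, fun d => ?_⟩
  · obtain ⟨x, hx⟩ := Submodule.Quotient.mk_surjective _ (c.val n)
    have h := hv c n x hx
    rw [hc] at h
    rw [← hx]
    exact (Submodule.Quotient.mk_eq_zero _).2 (h₂ x n ((Submodule.Quotient.mk_eq_zero _).1 h.symm))
  · choose y hy using fun n => Submodule.Quotient.mk_surjective _ (d.val n)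
    choose x hx using fun n => h₁ (y n) n
    have hc : ∀ {m n : ℕ}, m ≤ n → x m ≡ x n [SMOD (I ^ m • ⊤ : Submodule A X)] := fun {m n} hmn => by
      refine SModEq.sub_mem.2 (h₂ _ m ?_)
      have h2 : y m - y n ∈ (I ^ m • ⊤ : Submodule A Y) := by
        rw [← Submodule.Quotient.eq, hy]
        have := d.2 hmn
        rw [← hy n] at this
        exact this.symm
      rw [map_sub, show g (x m) - g (x n) = (y m - y n) - (y m - g (x m)) + (y n - g (x n)) by abel]
      exact Submodule.add_mem _ (Submodule.sub_mem _ h2 (hx m))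
        (Submodule.smul_mono_left (Ideal.pow_le_pow_right hmn) (hx n))
    refine ⟨⟨fun n => Submodule.Quotient.mk (x n), fun {m n} hmn => ?_⟩, AdicCompletion.ext fun n => ?_⟩
    · exact (hc hmn).symm
    · rw [hv _ n (x n) rfl, ← hy]
      exact ((Submodule.Quotient.eq _).2 (hx n)).symm


omit [Module.Flat A P] [IsAdicComplete I P] [Module.Finite A M] in
theorem rTensor_of_props :
    (∀ (y : AdicCompletion I N ⊗[A] M) (n : ℕ), ∃ x, y - LinearMap.rTensor M (AdicCompletion.of I N) x ∈
      (I ^ n • ⊤ : Submodule A (AdicCompletion I N ⊗[A] M))) ∧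
    (∀ (x : N ⊗[A] M) (n : ℕ), LinearMap.rTensor M (AdicCompletion.of I N) x ∈
      (I ^ n • ⊤ : Submodule A (AdicCompletion I N ⊗[A] M)) → x ∈ (I ^ n • ⊤ : Submodule A (N ⊗[A] M))) := by
  refine ⟨fun y n => ?_, fun x n hx => ?_⟩
  · induction y using TensorProduct.induction_on with
    | zero => exact ⟨0, by simp⟩
    | tmul a m =>
      obtain ⟨x, hx⟩ := exists_sub_mem I N a n
      refine ⟨x ⊗ₜ m, ?_⟩
      rw [LinearMap.rTensor_tmul, ← TensorProduct.sub_tmul]
      exact map_mem_smul ((TensorProduct.mk A (AdicCompletion I N) M).flip m) _ hx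
    | add a b ha hb =>
      obtain ⟨xa, ha⟩ := ha
      obtain ⟨xb, hb⟩ := hb
      refine ⟨xa + xb, ?_⟩
      rw [map_add, add_sub_add_comm]
      exact Submodule.add_mem _ ha hb
  · let Q := (N ⊗[A] M) ⧸ (I ^ n • ⊤ : Submodule A (N ⊗[A] M))
    let T : (N ⧸ (I ^ n • ⊤ : Submodule A N)) →ₗ[A] M →ₗ[A] Q :=
      Submodule.liftQ _ ((TensorProduct.mk A N M).compr₂ (Submodule.mkQ _)) fun z hz => by
        rw [LinearMap.mem_ker]
        ext m
        exact (Submodule.Quotient.mk_eq_zero _).2 (map_mem_smul ((TensorProduct.mk A N M).flip m) _ hz)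
    let σ : AdicCompletion I N ⊗[A] M →ₗ[A] Q := TensorProduct.lift (T.comp (AdicCompletion.eval I N n))
    have hσ : σ.comp (LinearMap.rTensor M (AdicCompletion.of I N)) = Submodule.mkQ _ :=
      TensorProduct.ext' fun a m => rfl
    have h0 : σ (LinearMap.rTensor M (AdicCompletion.of I N) x) = 0 := by
      have h := map_mem_smul σ (I ^ n) hx
      have hle : (I ^ n • ⊤ : Submodule A Q) ≤ ⊥ := Submodule.smul_le.2 fun r hr q _ => by
        obtain ⟨q, rfl⟩ := Submodule.Quotient.mk_surjective _ q
        rw [Submodule.mem_bot, ← Submodule.Quotient.mk_smul, Submodule.Quotient.mk_eq_zero]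
        exact Submodule.smul_mem_smul hr Submodule.mem_top
      exact hle h
    exact (Submodule.Quotient.mk_eq_zero _).1 ((LinearMap.congr_fun hσ x).symm.trans h0)

omit [Module.Flat A P] [IsAdicComplete I P] in
/-- The completion of a tensor product with a finite module. -/
theorem exists_completion_equiv [Module.Flat A N] :
    ∃ e : AdicCompletion I N ⊗[A] M ≃ₗ[A] AdicCompletion I (M ⊗[A] N),
      ∀ x : N ⊗[A] M, e (LinearMap.rTensor M (AdicCompletion.of I N) x) =
        AdicCompletion.of I (M ⊗[A] N) (TensorProduct.comm A N M x) := by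
  haveI := flat_completion I N
  haveI := AdicCompletion.isAdicComplete (M := N) (IsNoetherian.noetherian I)
  haveI := isAdicComplete_tensor I (P := AdicCompletion I N) M
  let g := LinearMap.rTensor M (AdicCompletion.of I N)
  let e₁ := LinearEquiv.ofBijective (AdicCompletion.of I (AdicCompletion I N ⊗[A] M))
    (AdicCompletion.of_bijective_iff.2 inferInstance)
  have hmap : Bijective ((AdicCompletion.map I g).restrictScalars A) :=
    bijective_map I g (rTensor_of_props I M N).1 (rTensor_of_props I M N).2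
  let e₂ := LinearEquiv.ofBijective _ hmap
  let c := TensorProduct.comm A N M
  let e₃ : AdicCompletion I (N ⊗[A] M) ≃ₗ[A] AdicCompletion I (M ⊗[A] N) :=
    LinearEquiv.ofBijective ((AdicCompletion.map I c.toLinearMap).restrictScalars A)
      (bijective_map I c.toLinearMap (fun y n => ⟨c.symm y, by simp⟩) fun x n hx => by
        simpa using map_mem_smul c.symm.toLinearMap _ hx)
  refine ⟨e₁.trans (e₂.symm.trans e₃), fun x => ?_⟩
  have h2 : e₂.symm (e₁ (g x)) = AdicCompletion.of I (N ⊗[A] M) x := by
    rw [LinearEquiv.symm_apply_eq]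
    exact (AdicCompletion.map_of I g x).symm
  show e₃ (e₂.symm (e₁ (g x))) = _
  rw [h2]
  exact AdicCompletion.map_of I c.toLinearMap x

omit [Module.Flat A P] [IsAdicComplete I P] in
/-- Reduction does not see completion. -/
theorem bijective_rTensor_quot :
    Bijective (LinearMap.rTensor (A ⧸ I) (AdicCompletion.of I N)) := by
  let eN := TensorProduct.tensorQuotEquivQuotSMul N I
  let eC := TensorProduct.tensorQuotEquivQuotSMul (AdicCompletion I N) I
  let q : (N ⧸ (I • ⊤ : Submodule A N)) →ₗ[A] (AdicCompletion I N ⧸ (I • ⊤ : Submodule A (AdicCompletion I N))) :=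
    Submodule.mapQ _ _ (AdicCompletion.of I N) fun z hz => map_mem_smul (AdicCompletion.of I N) _ hz
  have hq : Bijective q := by
    refine ⟨(injective_iff_map_eq_zero _).2 fun z hz => ?_, fun z => ?_⟩
    · obtain ⟨z, rfl⟩ := Submodule.Quotient.mk_surjective _ z
      have h := (Submodule.Quotient.mk_eq_zero _).1 hz
      refine (Submodule.Quotient.mk_eq_zero _).2 ?_
      have h' := mem_of_of_mem I N z 1 (by rwa [pow_one])
      rwa [pow_one] at h'
    · obtain ⟨z, rfl⟩ := Submodule.Quotient.mk_surjective _ z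
      obtain ⟨x, hx⟩ := exists_sub_mem I N z 1
      rw [pow_one] at hx
      exact ⟨Submodule.Quotient.mk x, ((Submodule.Quotient.eq _).2 hx).symm⟩
  have h : eC.toLinearMap.comp (LinearMap.rTensor (A ⧸ I) (AdicCompletion.of I N)) = q.comp eN.toLinearMap :=
    TensorProduct.ext' fun x r => by
      obtain ⟨r, rfl⟩ := Ideal.Quotient.mk_surjective r
      simp [eC, eN, q, TensorProduct.tensorQuotEquivQuotSMul_tmul_mk]
  have h' : ⇑(LinearMap.rTensor (A ⧸ I) (AdicCompletion.of I N)) = eC.symm ∘ q ∘ eN := funext fun x =>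
    eC.injective ((LinearMap.congr_fun h x).trans (eC.apply_symm_apply _).symm)
  rw [h']
  exact eC.symm.bijective.comp (hq.comp eN.bijective)

end Completion

end DCompFlatLib
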